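import Mathlib
import Cfsg.Agent.Prune
set_option linter.all false
prune_inst 0x7f00000000000000000000000000000000000000000000000000000000000000000000000000000000000000000000000000000000000000000000000000000000000000000000000000000000000000003fffffffffffffffffffffffffffbeffbdffffffff
open scoped Cfsg.Agent.FastGrp

/-!
# Monomial matrices (helper751)
-/

set_option autoImplicit false

namespace Cfsg.Agent.H751

open Equiv

section Mono

variable {n : Type*} [Fintype n] [DecidableEq n] {M : Type*} [CommGroup M]

/-- The monomial group with entries in `M`. -/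
abbrev MonGp (n M : Type*) [CommGroup M] : Type _ := (n → M) ⋊[mulAutArrow] Perm n

omit [Fintype n] [DecidableEq n] in
theorem arrow_apply (g : Perm n) (f : n → M) (i : n) : (mulAutArrow g) f i = f (g⁻¹ i) := rfl

omit [Fintype n] [DecidableEq n] in
theorem left_mul_apply (x y : MonGp n M) (i : n) : (x * y).left i = x.left i * y.left (x.right⁻¹ i) := rfl

variable {R : Type*} [CommRing R]

/-- The monomial matrix. -/
def monMat (χ : M →* Rˣ) (x : MonGp n M) : Matrix n n R :=
  fun i j => if x.right j = i then (χ (x.left i) : R) else 0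

omit [Fintype n] in
theorem monMat_apply (χ : M →* Rˣ) (x : MonGp n M) (i j : n) :
    monMat χ x i j = if x.right j = i then (χ (x.left i) : R) else 0 := rfl

omit [Fintype n] in
theorem monMat_one (χ : M →* Rˣ) : monMat χ (1 : MonGp n M) = 1 := by
  ext i j
  rw [monMat_apply, Matrix.one_apply]
  by_cases h : i = j
  · subst h
    rw [if_pos (show (1 : MonGp n M).right i = i from rfl), if_pos rfl]
    show ((χ 1 : Rˣ) : R) = 1
    rw [map_one, Units.val_one]
  · rw [if_neg h, if_neg]
    exact fun h' => h h'.symm

theorem monMat_mul (χ : M →* Rˣ) (x y : MonGp n M) : monMat χ (x * y) = monMat χ x * monMat χ y := by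
  ext i j
  rw [Matrix.mul_apply, Finset.sum_eq_single (y.right j)]
  · rw [monMat_apply, monMat_apply, monMat_apply, if_pos rfl]
    by_cases h : x.right (y.right j) = i
    · rw [if_pos h, if_pos (show (x * y).right j = i from h), left_mul_apply, map_mul, Units.val_mul]
      congr 3
      rw [← h]
      exact congrArg y.left (Equiv.symm_apply_apply x.right _)
    · rw [if_neg h, if_neg (show ¬ (x * y).right j = i from h), zero_mul]
  · intro k _ hk
    rw [monMat_apply χ y, if_neg (fun h => hk h.symm), mul_zero]
  · intro h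
    exact absurd (Finset.mem_univ _) h

/-- The monomial representation. -/
def mono (χ : M →* Rˣ) : MonGp n M →* Matrix.GeneralLinearGroup n R :=
  MonoidHom.toHomUnits
    { toFun := monMat χ
      map_one' := monMat_one χ
      map_mul' := monMat_mul χ }

omit [Fintype n] in
theorem monMat_map {R' : Type*} [CommRing R'] (φ : R →+* R') (χ : M →* Rˣ) (x : MonGp n M) :
    (monMat χ x).map φ = monMat ((Units.map φ.toMonoidHom).comp χ) x := by
  ext i j
  rw [Matrix.map_apply, monMat_apply, monMat_apply]
  split_ifs
  · rfl
  · exact map_zero φ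

omit [Fintype n] in
theorem monMat_injective [Nontrivial R] {χ : M →* Rˣ} (hχ : Function.Injective χ) :
    Function.Injective (monMat χ : MonGp n M → Matrix n n R) := by
  intro x y h
  have hr : x.right = y.right := by
    ext j
    have h1 := congrFun (congrFun h (x.right j)) j
    rw [monMat_apply, monMat_apply, if_pos rfl] at h1
    by_contra hne
    rw [if_neg (fun h' => hne h'.symm)] at h1
    exact (Units.ne_zero _) h1
  have hl : x.left = y.left := by
    ext i
    have h1 := congrFun (congrFun h i) (x.right⁻¹ i)
    have h2 : x.right (x.right⁻¹ i) = i := Equiv.apply_symm_apply x.right i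
    rw [monMat_apply, monMat_apply, if_pos h2, ← hr, if_pos h2] at h1
    exact hχ (Units.ext h1)
  exact SemidirectProduct.ext hl hr

theorem mono_injective [Nontrivial R] {χ : M →* Rˣ} (hχ : Function.Injective χ) :
    Function.Injective (mono χ : MonGp n M →* Matrix.GeneralLinearGroup n R) := by
  intro x y h
  exact monMat_injective hχ (congrArg Units.val h)

/-- Scalar elements of the monomial group. -/
def IsScal (x : MonGp n M) : Prop := x.right = 1 ∧ ∀ i j, x.left i = x.left j

theorem isScal_iff [Nontrivial R] {χ : M →* Rˣ} (hχ : Function.Injective χ) (x : MonGp n M) :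
    IsScal x ↔ ∃ c : R, monMat χ x = Matrix.scalar n c := by
  constructor
  · rintro ⟨h1, h2⟩
    rcases isEmpty_or_nonempty n with hn | ⟨⟨i⟩⟩
    · exact ⟨0, Subsingleton.elim _ _⟩
    · refine ⟨χ (x.left i), ?_⟩
      ext j k
      rw [monMat_apply, h1, Matrix.scalar_apply, Matrix.diagonal_apply, h2 j i]
      by_cases h : j = k
      · rw [if_pos h, if_pos (show (1 : Perm n) k = j from h.symm)]
      · rw [if_neg h, if_neg (show ¬ (1 : Perm n) k = j from fun h' => h h'.symm)]
  · rintro ⟨c, hc⟩
    have hr : x.right = 1 := by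
      ext j
      have h1 := congrFun (congrFun hc (x.right j)) j
      rw [monMat_apply, if_pos rfl, Matrix.scalar_apply, Matrix.diagonal_apply] at h1
      by_contra hne
      rw [if_neg (show ¬ x.right j = j from hne)] at h1
      exact (Units.ne_zero _) h1
    refine ⟨hr, fun i j => ?_⟩
    have h1 : ∀ k, ((χ (x.left k) : Rˣ) : R) = c := by
      intro k
      have h2 := congrFun (congrFun hc k) k
      rwa [monMat_apply, hr, if_pos (show (1 : Perm n) k = k from rfl), Matrix.scalar_apply,
        Matrix.diagonal_apply, if_pos rfl] at h2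
    exact hχ (Units.ext ((h1 i).trans (h1 j).symm))

/-- The group of the pairs `(t, σ)` with `σ ∈ Q` and `t_{κ i} = t_i ^ r`. -/
def wGp (M : Type*) [CommGroup M] (Q : Subgroup (Perm n)) (κ : Perm n) (hQ : ∀ σ ∈ Q, Commute σ κ) (r : ℕ) :
    Subgroup (MonGp n M) where
  carrier := {x | x.right ∈ Q ∧ ∀ i, x.left (κ i) = x.left i ^ r}
  mul_mem' := by
    rintro x y ⟨hx, hx'⟩ ⟨hy, hy'⟩
    refine ⟨Q.mul_mem hx hy, fun i => ?_⟩
    rw [left_mul_apply, left_mul_apply, hx', mul_pow]
    congr 1
    have h1 : x.right⁻¹ (κ i) = κ (x.right⁻¹ i) := by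
      have h2 := ((hQ _ hx).inv_left).eq
      exact congrArg (fun g : Perm n => g i) h2
    rw [h1, hy']
  one_mem' := ⟨Q.one_mem, fun i => (one_pow r).symm⟩
  inv_mem' := by
    rintro x ⟨hx, hx'⟩
    refine ⟨Q.inv_mem hx, fun i => ?_⟩
    have h1 : ∀ j, (x⁻¹).left j = (x.left (x.right j))⁻¹ := by
      intro j
      rw [SemidirectProduct.inv_left]
      show ((mulAutArrow x.right⁻¹) x.left⁻¹) j = _
      rw [arrow_apply, inv_inv]
      rfl
    rw [h1, h1, inv_pow]
    congr 1
    have h2 : x.right (κ i) = κ (x.right i) := congrArg (fun g : Perm n => g i) (hQ _ hx).eq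
    rw [h2, hx']

end Mono

end Cfsg.Agent.H751
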